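import Mathlib
import Groth.Prelude.Def_HTop2

/-!
# Invertible ideals of a polynomial ring over a seminormal ring

Coquand's proof of the theorem of Traverso and Swan, for ideals `K` with `K * K' = (h)`, `h(0) = 1`:
the normalised generator over a product of algebraically closed fields has integral coefficients, and
seminormality forces them into the ring.
-/

universe u

open Polynomial

namespace GrothLib.SwanPic1

theorem isReduced_of_seminormal {A : Type u} [CommRing A] (hA : HTop.IsSeminormalRing A) : IsReduced A := by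
  rw [isReduced_iff_pow_one_lt 2 one_lt_two]
  intro x hx
  obtain ⟨a, -, hu⟩ := hA 0 0 (by simp)
  have h3 : x ^ 3 = 0 := by rw [pow_succ, hx, zero_mul]
  exact (hu x ⟨hx.symm, h3.symm⟩).trans (hu 0 ⟨by simp, by simp⟩).symm

theorem eq_of_sq_eq_of_cube_eq {S : Type u} [CommRing S] [IsReduced S] {a y : S} (h2 : a ^ 2 = y ^ 2)
    (h3 : a ^ 3 = y ^ 3) : a = y := by
  refine sub_eq_zero.1 (IsReduced.eq_zero _ ⟨3, ?_⟩)
  linear_combination (4 : S) * h3 - (3 * y + 3 * a) * h2

/-- A seminormal ring contains the elements of a reduced overring all of whose high powers it contains. -/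
theorem mem_range_of_pow_mem {A S : Type u} [CommRing A] [CommRing S] [IsReduced S] [Algebra A S]
    (hA : HTop.IsSeminormalRing A) (hinj : Function.Injective (algebraMap A S)) (x : S) (N : ℕ)
    (hx : ∀ n, N ≤ n → x ^ n ∈ (algebraMap A S).range) : x ∈ (algebraMap A S).range := by
  induction N with
  | zero => simpa using hx 1 (Nat.zero_le _)
  | succ N ih =>
    refine ih fun n hn => ?_
    rcases Nat.lt_or_ge n (N + 1) with h | h
    swap
    · exact hx n h
    obtain rfl : n = N := by omega
    rcases Nat.eq_zero_or_pos n with rfl | hn0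
    · rw [pow_zero]; exact one_mem _
    obtain ⟨a, ha⟩ := hx (n * 2) (by omega)
    obtain ⟨b, hb⟩ := hx (n * 3) (by omega)
    obtain ⟨c, ⟨hc2, hc3⟩, -⟩ := hA a b (hinj (by
      rw [map_pow, map_pow, ha, hb, ← pow_mul, ← pow_mul]; ring_nf))
    refine ⟨c, eq_of_sq_eq_of_cube_eq ?_ ?_⟩
    · rw [← map_pow, ← hc2, ha, pow_mul]
    · rw [← map_pow, ← hc3, hb, pow_mul]

theorem eq_of_span_eq_of_coeff_zero {T : Type u} [CommRing T] [IsDomain T] {u u' : T[X]}
    (h : Ideal.span {u} = Ideal.span {u'}) (hu : u.coeff 0 = 1) (hu' : u'.coeff 0 = 1) : u = u' := by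
  obtain ⟨c, hc⟩ := Ideal.span_singleton_eq_span_singleton.1 h
  obtain ⟨a, -, ha⟩ := Polynomial.isUnit_iff.1 c.isUnit
  rw [← ha] at hc
  have h1 := congrArg (fun p => p.coeff 0) hc
  simp only [coeff_mul_C, hu, hu', one_mul] at h1
  rw [h1, C_1, mul_one] at hc
  exact hc

theorem exists_monic_generator {F : Type u} [Field F] {K K' : Ideal F[X]} {h : F[X]} (h0 : h.coeff 0 = 1)
    (hKK : K * K' = Ideal.span {h}) : ∃ g g' : F[X], g.coeff 0 = 1 ∧ g'.coeff 0 = 1 ∧
      K = Ideal.span {g} ∧ K' = Ideal.span {g'} ∧ g * g' = h := by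
  obtain ⟨a, rfl⟩ := (IsPrincipalIdealRing.principal K).principal
  obtain ⟨b, rfl⟩ := (IsPrincipalIdealRing.principal K').principal
  simp only [Ideal.submodule_span_eq] at hKK ⊢
  rw [Ideal.span_singleton_mul_span_singleton, Ideal.span_singleton_eq_span_singleton] at hKK
  obtain ⟨c, hc⟩ := hKK
  obtain ⟨d, -, hd⟩ := Polynomial.isUnit_iff.1 c.isUnit
  rw [← hd] at hc
  have ha : a.coeff 0 ≠ 0 := fun h1 => one_ne_zero (h0.symm.trans (by
    rw [← hc, coeff_mul_C, Polynomial.mul_coeff_zero, h1, zero_mul, zero_mul]))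
  have h1 := congrArg (fun p => p.coeff 0) hc
  simp only [Polynomial.mul_coeff_zero, coeff_C_zero, h0] at h1
  refine ⟨a * C (a.coeff 0)⁻¹, b * C (a.coeff 0 * d), ?_, ?_, ?_, ?_, ?_⟩
  · rw [coeff_mul_C, mul_inv_cancel₀ ha]
  · rw [coeff_mul_C, ← h1]; ring
  · exact (Ideal.span_singleton_mul_right_unit (isUnit_C.2 (isUnit_iff_ne_zero.2 (inv_ne_zero ha))) a).symm
  · refine (Ideal.span_singleton_mul_right_unit (isUnit_C.2 (isUnit_iff_ne_zero.2 (mul_ne_zero ha ?_))) b).symm
    rintro rfl
    simp at h1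
  · rw [← hc, C_mul, show a * C (a.coeff 0)⁻¹ * (b * (C (a.coeff 0) * C d)) =
      a * b * C d * (C (a.coeff 0)⁻¹ * C (a.coeff 0)) by ring, ← C_mul, inv_mul_cancel₀ ha, C_1, mul_one]

/-- A divisor of a product of linear factors is a partial product. -/
theorem exists_finset_of_dvd {E : Type u} [Field E] {ι : Type} [DecidableEq ι] (r : ι → E) (s : Finset ι) :
    ∀ g : E[X], g ∣ ∏ i ∈ s, (1 - C (r i) * X) →
      ∃ t ⊆ s, Associated g (∏ i ∈ t, (1 - C (r i) * X)) := by
  induction s using Finset.induction with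
  | empty => exact fun g hg => ⟨∅, subset_rfl, by simpa [associated_one_iff_isUnit] using isUnit_of_dvd_one (by simpa using hg)⟩
  | @insert a s ha ih =>
    intro g hg
    rw [Finset.prod_insert ha] at hg
    by_cases hr : r a = 0
    · obtain ⟨t, ht, hgt⟩ := ih g (by simpa [hr] using hg)
      exact ⟨t, ht.trans (Finset.subset_insert _ _), hgt⟩
    have hirr : Prime (1 - C (r a) * X) := by
      refine (Polynomial.irreducible_of_degree_eq_one ?_).prime
      rw [show 1 - C (r a) * X = C (-r a) * X + C 1 by simp; ring]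
      exact degree_linear (neg_ne_zero.2 hr)
    rcases hirr.left_dvd_or_dvd_right_of_dvd_mul hg with h | h
    · obtain ⟨g', rfl⟩ := h
      obtain ⟨t, ht, hgt⟩ := ih g' ((mul_dvd_mul_iff_left hirr.ne_zero).1 hg)
      exact ⟨insert a t, Finset.insert_subset_insert a ht, by
        rw [Finset.prod_insert fun hat => ha (ht hat)]; exact hgt.mul_left _⟩
    · obtain ⟨t, ht, hgt⟩ := ih g h
      exact ⟨t, ht.trans (Finset.subset_insert _ _), hgt⟩

theorem coeff_zero_prod_linear {S : Type u} [CommRing S] {ι : Type} (t : Finset ι) (r : ι → S) :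
    (∏ i ∈ t, (1 - C (r i) * X)).coeff 0 = 1 := by
  classical
  induction t using Finset.induction with
  | empty => simp
  | insert a s ha ih => rw [Finset.prod_insert ha, Polynomial.mul_coeff_zero, ih]; simp

theorem eq_of_mul_eq_mul {S : Type u} [CommRing S] {a b w : S[X]} (hw : w.coeff 0 = 1) (h : a * w = b * w) :
    a = b := by
  have hd : (a - b) * w = 0 := by rw [sub_mul, h, sub_self]
  rw [← sub_eq_zero]
  refine Polynomial.ext fun n => ?_
  rw [coeff_zero]
  induction n using Nat.strong_induction_on with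
  | _ n ih =>
    have h1 := congrArg (fun p => p.coeff n) hd
    simp only [coeff_mul, coeff_zero] at h1
    rw [Finset.sum_eq_single (n, 0)] at h1
    · rwa [hw, mul_one] at h1
    · rintro ⟨i, j⟩ hij hne
      rw [Finset.HasAntidiagonal.mem_antidiagonal] at hij
      dsimp only at hij ⊢
      rcases lt_or_ge i n with hi | hi
      · rw [ih i hi, zero_mul]
      · exact absurd (Prod.ext (by dsimp only; omega) (by dsimp only; omega)) hne
    · intro h2; exact absurd (Finset.HasAntidiagonal.mem_antidiagonal.2 (add_zero n)) h2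

/-- Division by a polynomial with constant term one stays in the coefficient subalgebra. -/
theorem coeff_mem_of_mul {A S : Type u} [CommRing A] [CommRing S] [Algebra A S] (B : Subalgebra A S)
    {u w a : S[X]} (hu : ∀ i, u.coeff i ∈ B) (ha : ∀ i, a.coeff i ∈ B) (hu0 : u.coeff 0 = 1) (h : a = u * w)
    (n : ℕ) : w.coeff n ∈ B := by
  induction n using Nat.strong_induction_on with
  | _ n ih =>
    have h1 := congrArg (fun p => p.coeff n) h
    simp only [coeff_mul] at h1
    rw [← Finset.insert_erase (Finset.HasAntidiagonal.mem_antidiagonal.2 (zero_add n) :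
      (0, n) ∈ Finset.HasAntidiagonal.antidiagonal n), Finset.sum_insert (Finset.notMem_erase _ _), hu0, one_mul] at h1
    rw [eq_sub_of_add_eq h1.symm]
    refine sub_mem (ha n) (sum_mem fun ij hij => mul_mem (hu _) (ih _ ?_))
    obtain ⟨hne, hmem⟩ := Finset.mem_erase.1 hij
    rw [Finset.HasAntidiagonal.mem_antidiagonal] at hmem
    by_contra hlt
    exact hne (Prod.ext (show ij.1 = 0 by omega) (show ij.2 = n by omega))

theorem dvd_pi {ι : Type u} {E : ι → Type u} [∀ i, Field (E i)] {u a : (Π i, E i)[X]} (hu : u.coeff 0 = 1)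
    (h : ∀ i, u.map (Pi.evalRingHom E i) ∣ a.map (Pi.evalRingHom E i)) : u ∣ a := by
  classical
  choose w hw using h
  have hdeg : ∀ i, (w i).natDegree ≤ a.natDegree := fun i => by
    rcases eq_or_ne (w i) 0 with h0 | h0
    · simp [h0]
    have hu' : u.map (Pi.evalRingHom E i) ≠ 0 := fun h => by
      have := congrArg (fun p => p.coeff 0) h
      simp [hu] at this
    refine le_trans ?_ (Polynomial.natDegree_map_le (f := Pi.evalRingHom E i) (p := a))
    rw [hw i, natDegree_mul hu' h0]
    omega
  let W : (Π i, E i)[X] := ∑ n ∈ Finset.range (a.natDegree + 1), C (fun i => (w i).coeff n) * X ^ n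
  refine ⟨W, Polynomial.ext fun n => funext fun i => ?_⟩
  have hW : W.map (Pi.evalRingHom E i) = w i := by
    refine Eq.trans ?_ ((w i).as_sum_range_C_mul_X_pow' (n := a.natDegree + 1) (Nat.lt_succ_of_le (hdeg i))).symm
    simp only [W, Polynomial.map_sum, Polynomial.map_mul, Polynomial.map_C, Polynomial.map_pow, Polynomial.map_X]
    rfl
  have h2 := congrArg (fun p => p.coeff n) (show a.map (Pi.evalRingHom E i) = (u * W).map (Pi.evalRingHom E i) by
    rw [Polynomial.map_mul, hW, ← hw i])
  rw [Polynomial.coeff_map, Polynomial.coeff_map] at h2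
  exact h2

/-- The reduced overring used for the normalised generators. -/
abbrev Env (A : Type u) [CommRing A] : Type u := Π p : PrimeSpectrum A, AlgebraicClosure (FractionRing (A ⧸ p.asIdeal))

theorem env_injective (A : Type u) [CommRing A] [IsReduced A] : Function.Injective (algebraMap A (Env A)) := by
  rw [injective_iff_map_eq_zero]
  intro x hx
  refine IsReduced.eq_zero _ ((nilpotent_iff_mem_prime).2 fun p hp => ?_)
  have h := congrFun hx ⟨p, hp⟩
  rw [Pi.algebraMap_apply, IsScalarTower.algebraMap_apply A (FractionRing (A ⧸ p)) (AlgebraicClosure (FractionRing (A ⧸ p))),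
    Pi.zero_apply, map_eq_zero_iff _ (RingHom.injective _), IsScalarTower.algebraMap_apply A (A ⧸ p) (FractionRing (A ⧸ p)),
    map_eq_zero_iff _ (IsFractionRing.injective _ _)] at h
  exact Ideal.Quotient.eq_zero_iff_mem.1 h

theorem exists_roots {E : Type u} [Field E] [IsAlgClosed E] {h : E[X]} {D : ℕ} (hD : h.natDegree ≤ D)
    (h0 : h.coeff 0 = 1) :
    ∃ r : Fin D → E, h.reflect D = ∏ i, (X - C (r i)) ∧ h = ∏ i, (1 - C (r i) * X) := by
  classical
  set q := h.reflect D with hq0
  have hqD : q.natDegree = D := by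
    refine le_antisymm (Polynomial.natDegree_reflect_le.trans (max_le le_rfl hD)) (Polynomial.le_natDegree_of_ne_zero ?_)
    rw [hq0, Polynomial.coeff_reflect, Polynomial.revAt_le le_rfl, Nat.sub_self, h0]
    exact one_ne_zero
  have hqm : q.Monic := by
    refine Polynomial.monic_of_natDegree_le_of_coeff_eq_one D hqD.le ?_
    rw [hq0, Polynomial.coeff_reflect, Polynomial.revAt_le le_rfl, Nat.sub_self, h0]
  have hs : q.Splits := IsAlgClosed.splits q
  obtain ⟨l, hl⟩ : ∃ l : List E, (l : Multiset E) = q.roots := ⟨q.roots.toList, q.roots.coe_toList⟩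
  have hlD : l.length = D := by rw [← hqD, hs.natDegree_eq_card_roots, ← hl, Multiset.coe_card]
  let r : Fin D → E := fun i => l.get (i.cast hlD.symm)
  have hq : q = ∏ i, (X - C (r i)) := by
    rw [hs.eq_prod_roots_of_monic hqm, ← hl, Multiset.map_coe, Multiset.prod_coe, ← List.prod_ofFn]
    congr 1
    apply List.ext_getElem
    · simp [hlD]
    · intro i h1 h2
      simp [r]
  refine ⟨r, hq, ?_⟩
  have key : ∀ s : Finset (Fin D),
      (∏ i ∈ s, (X - C (r i))).reflect s.card = ∏ i ∈ s, (1 - C (r i) * X) := fun s => by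
    induction s using Finset.induction with
    | empty => simp
    | @insert a s ha ih =>
      have hd : (∏ i ∈ s, (X - C (r i))).natDegree ≤ s.card := by
        rw [Polynomial.natDegree_prod_of_monic _ _ fun i _ => monic_X_sub_C (r i)]
        simp only [natDegree_X_sub_C, Finset.sum_const, smul_eq_mul, mul_one, le_refl]
      rw [Finset.prod_insert ha, Finset.prod_insert ha, Finset.card_insert_of_notMem ha, Nat.add_comm s.card 1,
        Polynomial.reflect_mul (X - C (r a)) _ (natDegree_X_sub_C_le (r a)) hd,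
        ih, Polynomial.reflect_sub, Polynomial.reflect_one_X, Polynomial.reflect_C]
      simp
  have h2 := key Finset.univ
  rw [Finset.card_univ, Fintype.card_fin, ← hq, hq0, Polynomial.reflect_reflect] at h2
  exact h2

theorem exists_integral_factor {A : Type u} [CommRing A] [Nontrivial A] {K K' : Ideal A[X]} {h : A[X]}
    (h0 : h.coeff 0 = 1) (hKK : K * K' = Ideal.span {h}) :
    ∃ u v : (Env A)[X], u.coeff 0 = 1 ∧ v.coeff 0 = 1 ∧ (∀ i, IsIntegral A (u.coeff i)) ∧ (∀ i, IsIntegral A (v.coeff i)) ∧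
      u * v = h.map (algebraMap A (Env A)) ∧ (∀ a ∈ K, u ∣ a.map (algebraMap A (Env A))) ∧
      ∀ b ∈ K', v ∣ b.map (algebraMap A (Env A)) := by
  classical
  set D := h.natDegree
  set hr := h.reflect D with hhr
  have hrm : hr.Monic := by
    refine Polynomial.monic_of_natDegree_le_of_coeff_eq_one D (Polynomial.natDegree_reflect_le.trans (max_self _).le) ?_
    rw [hhr, Polynomial.coeff_reflect, Polynomial.revAt_le le_rfl, Nat.sub_self, h0]
  have hrd : hr.natDegree = D := by
    refine le_antisymm (Polynomial.natDegree_reflect_le.trans (max_self _).le) (Polynomial.le_natDegree_of_ne_zero ?_)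
    rw [hhr, Polynomial.coeff_reflect, Polynomial.revAt_le le_rfl, Nat.sub_self, h0]
    exact one_ne_zero
  -- componentwise roots
  have hroot : ∀ p : PrimeSpectrum A, ∃ r : Fin D → AlgebraicClosure (FractionRing (A ⧸ p.asIdeal)),
      hr.map (algebraMap A _) = ∏ i, (X - C (r i)) ∧ h.map (algebraMap A _) = ∏ i, (1 - C (r i) * X) := by
    intro p
    obtain ⟨r, h1, h2⟩ := exists_roots (h := h.map (algebraMap A (AlgebraicClosure (FractionRing (A ⧸ p.asIdeal)))))
      (D := D) Polynomial.natDegree_map_le (by rw [coeff_map, h0, map_one])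
    refine ⟨r, ?_, h2⟩
    rw [← h1, hhr, Polynomial.reflect_map]
  choose r hr1 hr2 using hroot
  -- the partition
  have hpart : ∀ p : PrimeSpectrum A, ∃ t : Finset (Fin D),
      K.map (mapRingHom (algebraMap A (AlgebraicClosure (FractionRing (A ⧸ p.asIdeal))))) = Ideal.span {∏ i ∈ t, (1 - C (r p i) * X)} ∧
      K'.map (mapRingHom (algebraMap A (AlgebraicClosure (FractionRing (A ⧸ p.asIdeal))))) = Ideal.span {∏ i ∈ tᶜ, (1 - C (r p i) * X)} := by
    intro p
    set φ := algebraMap A (AlgebraicClosure (FractionRing (A ⧸ p.asIdeal)))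
    obtain ⟨g, g', hg, hg', hK, hK', hgg⟩ := exists_monic_generator (h := h.map φ) (K := K.map (mapRingHom φ))
      (K' := K'.map (mapRingHom φ)) (by rw [coeff_map, h0, map_one])
      (by rw [← Ideal.map_mul, hKK, Ideal.map_span, Set.image_singleton]; rfl)
    obtain ⟨t, -, ht⟩ := exists_finset_of_dvd (r p) Finset.univ g ⟨g', (hr2 p).symm.trans hgg.symm⟩
    refine ⟨t, hK.trans (Ideal.span_singleton_eq_span_singleton.2 ht), hK'.trans ?_⟩
    have ht' : g = ∏ i ∈ t, (1 - C (r p i) * X) :=
      eq_of_span_eq_of_coeff_zero (Ideal.span_singleton_eq_span_singleton.2 ht) hg (coeff_zero_prod_linear _ _)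
    congr 1
    rw [Set.singleton_eq_singleton_iff]
    refine mul_left_cancel₀ (fun hz => ?_) (hgg.trans ((hr2 p).trans ?_))
    · rw [hz, coeff_zero] at hg; exact zero_ne_one hg
    · rw [ht', Finset.prod_mul_prod_compl]
  choose t htK htK' using hpart
  let ρ : Fin D → Env A := fun i p => r p i
  let ε : Fin D → Env A := fun i p => if i ∈ t p then 1 else 0
  have hρ : ∀ i, IsIntegral A (ρ i) := fun i => ⟨hr, hrm, funext fun p => by
    rw [← aeval_def, Pi.zero_apply, show (aeval (ρ i) hr) p = aeval (r p i) hr from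
      ((aeval_algHom_apply (Pi.evalAlgHom A (fun p : PrimeSpectrum A => AlgebraicClosure (FractionRing (A ⧸ p.asIdeal))) p)
        (ρ i) hr).symm), aeval_def, ← eval_map, hr1 p, eval_prod, Finset.prod_eq_zero (Finset.mem_univ i) (by simp)]⟩
  have hε : ∀ i, IsIntegral A (ε i) := fun i => ⟨X ^ 2 - X, by monicity!, funext fun p => by
    by_cases hi : i ∈ t p <;> simp [ε, hi]⟩
  let u : (Env A)[X] := ∏ i, (1 - C (ε i * ρ i) * X)
  let v : (Env A)[X] := ∏ i, (1 - C ((1 - ε i) * ρ i) * X)
  have hmem : ∀ (c : Fin D → Env A), (∀ i, IsIntegral A (c i)) → ∀ n, IsIntegral A ((∏ i, (1 - C (c i) * X)).coeff n) := by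
    intro c hc n
    let B := integralClosure A (Env A)
    have : ∏ i, (1 - C (c i) * X) = (∏ i, (1 - C (⟨c i, hc i⟩ : B) * X)).map B.val.toRingHom := by
      simp [Polynomial.map_prod]
    rw [this, coeff_map]
    exact ((∏ i, (1 - C (⟨c i, hc i⟩ : B) * X)).coeff n).2
  have hcomp : ∀ (p : PrimeSpectrum A) (s : Finset (Fin D)) (c : Fin D → Env A), (∀ i, c i p = if i ∈ s then r p i else 0) →
      (∏ i, (1 - C (c i) * X)).map (Pi.evalRingHom _ p) = ∏ i ∈ s, (1 - C (r p i) * X) := by
    intro p s c hc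
    rw [Polynomial.map_prod, ← Finset.prod_subset (Finset.subset_univ s) (fun i _ hi => by simp [hc, hi])]
    exact Finset.prod_congr rfl fun i hi => by simp [hc, hi]
  have hu : ∀ p, u.map (Pi.evalRingHom _ p) = ∏ i ∈ t p, (1 - C (r p i) * X) := fun p =>
    hcomp p (t p) _ fun i => by by_cases hi : i ∈ t p <;> simp [ε, ρ, hi]
  have hv : ∀ p, v.map (Pi.evalRingHom _ p) = ∏ i ∈ (t p)ᶜ, (1 - C (r p i) * X) := fun p =>
    hcomp p (t p)ᶜ _ fun i => by by_cases hi : i ∈ t p <;> simp [ε, ρ, hi]
  have hmap : ∀ (a : A[X]) (p : PrimeSpectrum A), (a.map (algebraMap A (Env A))).map (Pi.evalRingHom _ p) =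
      mapRingHom (algebraMap A (AlgebraicClosure (FractionRing (A ⧸ p.asIdeal)))) a := fun a p => by
    rw [Polynomial.map_map]; rfl
  refine ⟨u, v, coeff_zero_prod_linear _ _, coeff_zero_prod_linear _ _, hmem _ fun i => (hε i).mul (hρ i),
    hmem _ fun i => (isIntegral_one.sub (hε i)).mul (hρ i), Polynomial.ext fun n => funext fun p => ?_,
    fun a ha => dvd_pi (coeff_zero_prod_linear _ _) fun p => ?_, fun b hb => dvd_pi (coeff_zero_prod_linear _ _) fun p => ?_⟩
  · have := congrArg (fun q => q.coeff n) (show (u * v).map (Pi.evalRingHom _ p) = (h.map (algebraMap A (Env A))).map (Pi.evalRingHom _ p) by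
      rw [Polynomial.map_mul, hu, hv, Finset.prod_mul_prod_compl, hmap, coe_mapRingHom, hr2])
    rw [Polynomial.coeff_map, Polynomial.coeff_map] at this
    exact this
  · rw [hu, hmap, ← Ideal.mem_span_singleton, ← htK]
    exact Ideal.mem_map_of_mem _ ha
  · rw [hv, hmap, ← Ideal.mem_span_singleton, ← htK']
    exact Ideal.mem_map_of_mem _ hb

/-- A finite subalgebra whose elements are congruent to the ring at every prime is the ring. -/
theorem eq_bot_of_seminormal {A S : Type u} [CommRing A] [CommRing S] [IsReduced S] [Algebra A S]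
    (hA : HTop.IsSeminormalRing A) (hinj : Function.Injective (algebraMap A S)) (T : Finset S)
    (hint : ∀ x ∈ T, IsIntegral A x)
    (happ : ∀ (p : Ideal A) [p.IsPrime], ∀ x : Algebra.adjoin A (T : Set S), (x : S) ∈ T →
      ∃ s ∉ p, ∃ a : A, ∀ q : Ideal (Algebra.adjoin A (T : Set S)), q.IsPrime → q.comap (algebraMap A _) = p →
        algebraMap A _ s * x - algebraMap A _ a ∈ q) :
    Algebra.adjoin A (T : Set S) = ⊥ := by
  classical
  set B := Algebra.adjoin A (T : Set S)
  have hB : (Subalgebra.toSubmodule B).FG := fg_adjoin_of_finite T.finite_toSet hint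
  let c : Ideal A :=
    { carrier := {a | ∀ b ∈ B, algebraMap A S a * b ∈ (algebraMap A S).range}
      zero_mem' := fun b _ => by rw [map_zero, zero_mul]; exact zero_mem _
      add_mem' := fun {a a'} ha ha' b hb => by rw [map_add, add_mul]; exact add_mem (ha b hb) (ha' b hb)
      smul_mem' := fun r a ha b hb => by
        rw [smul_eq_mul, map_mul, mul_assoc]; exact mul_mem ⟨r, rfl⟩ (ha b hb) }
  suffices hc : (1 : A) ∈ c by
    rw [eq_bot_iff]
    intro b hb
    obtain ⟨a, ha⟩ := hc b hb
    exact Algebra.mem_bot.2 ⟨a, by rw [ha, map_one, one_mul]⟩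
  by_contra hc
  obtain ⟨m, hm, hcm⟩ := Ideal.exists_le_maximal c fun h => hc (h ▸ Submodule.mem_top)
  obtain ⟨p, hp, -⟩ := Ideal.exists_minimalPrimes_le (J := m) hcm
  haveI := hp.1.1
  -- generators are locally in `A`
  have hgen : ∀ x : B, (x : S) ∈ T → ∃ s ∉ p, algebraMap A S s * x ∈ (algebraMap A S).range := by
    intro x hx
    obtain ⟨s, hs, a, hq⟩ := happ p x hx
    set y : B := algebraMap A B s * x - algebraMap A B a with hy
    -- the conductor as an ideal of `B`
    let cB : Ideal B :=
      { carrier := {y | ∀ b ∈ B, (y : S) * b ∈ (algebraMap A S).range}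
        zero_mem' := fun b _ => by simp
        add_mem' := fun {u u'} hu hu' b hb => by
          rw [Subalgebra.coe_add, add_mul]; exact add_mem (hu b hb) (hu' b hb)
        smul_mem' := fun r u hu b hb => by
          rw [smul_eq_mul, Subalgebra.coe_mul, mul_comm (r : S), mul_assoc]; exact hu _ (mul_mem r.2 hb) }
    have hcB : ∀ z : A, algebraMap A B z ∈ cB ↔ z ∈ c := fun z => Iff.rfl
    let M : Submonoid B := Submonoid.map (algebraMap A B).toMonoidHom p.primeCompl ⊔ Submonoid.powers y
    by_cases hdisj : Disjoint (cB : Set B) (M : Set B)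
    · obtain ⟨q, hq', hle, hqd⟩ := Ideal.exists_le_prime_disjoint cB M hdisj
      have hqA : q.comap (algebraMap A B) ≤ p := fun z hz => by
        by_contra hzp
        exact Set.disjoint_left.1 hqd hz (Submonoid.mem_sup_left ⟨z, hzp, rfl⟩)
      haveI := hq'
      have hqp : q.comap (algebraMap A B) = p :=
        le_antisymm hqA (hp.2 ⟨inferInstance, fun z hz => hle ((hcB z).2 hz)⟩ hqA)
      exact absurd (hq q hq' hqp) (fun hyq => Set.disjoint_left.1 hqd hyq
        (Submonoid.mem_sup_right (Submonoid.mem_powers y)))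
    · obtain ⟨z, hz, hzM⟩ := Set.not_disjoint_iff.1 hdisj
      obtain ⟨_, ⟨s', hs', rfl⟩, _, ⟨N, rfl⟩, rfl⟩ := Submonoid.mem_sup.1 hzM
      -- radical: a power in the conductor implies membership
      have hrad : algebraMap A B s' * y ∈ cB := by
        intro b hb
        refine mem_range_of_pow_mem hA hinj _ (N + 1) fun n hn => ?_
        have hpow : (algebraMap A B s' * y) ^ n ∈ cB := by
          obtain ⟨j, rfl⟩ := Nat.exists_eq_add_of_le hn
          rw [show (algebraMap A B s' * y) ^ (N + 1 + j) = (algebraMap A B s' * y ^ N) *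
            (algebraMap A B s' ^ (N + j) * y ^ (1 + j)) by ring]
          exact Ideal.mul_mem_right _ _ hz
        have := hpow (b ^ n) (pow_mem hb n)
        rwa [mul_pow, ← Subalgebra.coe_pow]
      refine ⟨s' * s, fun h => (hp.1.1.mem_or_mem h).elim hs' hs, ?_⟩
      obtain ⟨a', ha'⟩ := hrad 1 (one_mem _)
      refine ⟨a' + s' * a, ?_⟩
      rw [map_add, map_mul, map_mul, ha']
      simp [hy]
      ring
  -- hence the conductor meets the complement of `p`
  have hall : ∀ x ∈ B, ∃ s ∉ p, algebraMap A S s * x ∈ (algebraMap A S).range := by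
    intro x hx
    induction hx using Algebra.adjoin_induction with
    | mem x hx => exact hgen ⟨x, Algebra.subset_adjoin hx⟩ hx
    | algebraMap r => exact ⟨1, fun h => hp.1.1.ne_top ((Ideal.eq_top_iff_one _).2 h), by simp⟩
    | add x y _ _ hx hy =>
      obtain ⟨s, hs, a, ha⟩ := hx
      obtain ⟨s', hs', a', ha'⟩ := hy
      exact ⟨s * s', fun h => (hp.1.1.mem_or_mem h).elim hs hs', s' * a + s * a', by
        simp only [map_add, map_mul, ha, ha']; ring⟩
    | mul x y _ _ hx hy =>
      obtain ⟨s, hs, a, ha⟩ := hx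
      obtain ⟨s', hs', a', ha'⟩ := hy
      exact ⟨s * s', fun h => (hp.1.1.mem_or_mem h).elim hs hs', a * a', by
        simp only [map_mul, ha, ha']; ring⟩
  obtain ⟨G, hG⟩ := hB
  choose! s hs hsG using fun g (hg : g ∈ G) => hall g
    ((Subalgebra.mem_toSubmodule B).1 (hG ▸ Submodule.subset_span hg))
  have hprod : ∏ g ∈ G, s g ∈ c := by
    intro b hb
    have hb' : b ∈ Submodule.span A (G : Set S) := hG.symm ▸ (Subalgebra.mem_toSubmodule B).2 hb
    induction hb' using Submodule.span_induction with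
    | mem g hg =>
      rw [← Finset.mul_prod_erase G s hg, map_mul, mul_comm (algebraMap A S (s g)), mul_assoc]
      exact mul_mem ⟨_, rfl⟩ (hsG g hg)
    | zero => simp
    | add b b' h1 h2 i1 i2 =>
      rw [mul_add]
      exact add_mem (i1 ((Subalgebra.mem_toSubmodule B).1 (hG ▸ h1))) (i2 ((Subalgebra.mem_toSubmodule B).1 (hG ▸ h2)))
    | smul r b h1 i1 =>
      rw [Algebra.smul_def, mul_left_comm]
      exact mul_mem ⟨r, rfl⟩ (i1 ((Subalgebra.mem_toSubmodule B).1 (hG ▸ h1)))
  obtain ⟨g, hg, hgp⟩ := hp.1.1.prod_mem_iff.1 (hp.1.2 hprod)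
  exact hs g hg hgp

/-- The normalised generator over a larger ring is congruent to the one over the field. -/
theorem exists_congr_of_generators {A B : Type u} [CommRing A] [CommRing B] [Algebra A B] (p : Ideal A) [p.IsPrime]
    (J : Ideal A[X]) (gF : (FractionRing (A ⧸ p))[X]) (wB : B[X]) (hgF : gF.coeff 0 = 1) (hw1 : wB.coeff 0 = 1)
    (hJF : J.map (mapRingHom (algebraMap A (FractionRing (A ⧸ p)))) = Ideal.span {gF})
    (hJB : J.map (mapRingHom (algebraMap A B)) = Ideal.span {wB}) (i : ℕ) :
    ∃ s ∉ p, ∃ a : A, ∀ q : Ideal B, q.IsPrime → q.comap (algebraMap A B) = p →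
      algebraMap A B s * wB.coeff i - algebraMap A B a ∈ q := by
  obtain ⟨⟨a, ⟨s, hs⟩⟩, has⟩ := IsLocalization.surj (nonZeroDivisors (A ⧸ p)) (gF.coeff i)
  obtain ⟨a, rfl⟩ := Ideal.Quotient.mk_surjective a
  obtain ⟨s, rfl⟩ := Ideal.Quotient.mk_surjective s
  refine ⟨s, fun hsp => nonZeroDivisors.ne_zero hs (Ideal.Quotient.eq_zero_iff_mem.2 hsp), a, fun q hq hqp => ?_⟩
  haveI := hq
  let φ : A ⧸ p →+* B ⧸ q := Ideal.quotientMap q (algebraMap A B) hqp.ge
  have hφ : Function.Injective φ := Ideal.quotientMap_injective' hqp.le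
  let φF : FractionRing (A ⧸ p) →+* FractionRing (B ⧸ q) := IsFractionRing.map hφ
  let π : B →+* FractionRing (B ⧸ q) := (algebraMap (B ⧸ q) _).comp (Ideal.Quotient.mk q)
  have hcompat : φF.comp (algebraMap A (FractionRing (A ⧸ p))) = π.comp (algebraMap A B) := by
    refine RingHom.ext fun z => ?_
    show φF (algebraMap A (FractionRing (A ⧸ p)) z) = _
    rw [IsScalarTower.algebraMap_apply A (A ⧸ p) (FractionRing (A ⧸ p))]
    exact IsLocalization.map_eq _ _
  have h1 : Ideal.span {gF.map φF} = Ideal.span {wB.map π} := by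
    rw [show Ideal.span {gF.map φF} = (Ideal.span {gF}).map (mapRingHom φF) by
        rw [Ideal.map_span, Set.image_singleton, coe_mapRingHom],
      show Ideal.span {wB.map π} = (Ideal.span {wB}).map (mapRingHom π) by
        rw [Ideal.map_span, Set.image_singleton, coe_mapRingHom],
      ← hJF, ← hJB, Ideal.map_map, Ideal.map_map]
    congr 1
    exact (Polynomial.mapRingHom_comp _ _).trans ((congrArg mapRingHom hcompat).trans (Polynomial.mapRingHom_comp _ _).symm)
  have h2 := eq_of_span_eq_of_coeff_zero h1 (by rw [coeff_map, hgF, map_one]) (by rw [coeff_map, hw1, map_one])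
  have h3 := congrArg (fun P => P.coeff i) h2
  simp only [coeff_map] at h3
  have has' : gF.coeff i * algebraMap (A ⧸ p) (FractionRing (A ⧸ p)) (Ideal.Quotient.mk p s) =
      algebraMap (A ⧸ p) (FractionRing (A ⧸ p)) (Ideal.Quotient.mk p a) := has
  have h4 := congrArg φF has'
  rw [map_mul, h3, ← Ideal.Quotient.algebraMap_eq, ← IsScalarTower.algebraMap_apply A (A ⧸ p) (FractionRing (A ⧸ p)),
    ← IsScalarTower.algebraMap_apply A (A ⧸ p) (FractionRing (A ⧸ p)), ← RingHom.comp_apply, ← RingHom.comp_apply,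
    hcompat] at h4
  rw [← Ideal.Quotient.eq_zero_iff_mem]
  refine IsFractionRing.injective (B ⧸ q) (FractionRing (B ⧸ q)) ?_
  rw [map_zero, map_sub, map_sub, sub_eq_zero, mul_comm (algebraMap A B s), map_mul, map_mul]
  exact h4

/-- Ideals `K` of `A[X]` with `K * K' = (h)`, `h(0) = 1`, are principal for seminormal `A`. -/
theorem exists_generator {A : Type u} [CommRing A] (hA : HTop.IsSeminormalRing A) {K K' : Ideal A[X]} {h : A[X]}
    (h0 : h.coeff 0 = 1) (hKK : K * K' = Ideal.span {h}) :
    ∃ g : A[X], g.coeff 0 = 1 ∧ K = Ideal.span {g} := by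
  classical
  rcases subsingleton_or_nontrivial A with hs | hs
  · haveI : Subsingleton A[X] := inferInstance
    exact ⟨1, Subsingleton.elim _ _, Subsingleton.elim _ _⟩
  haveI := isReduced_of_seminormal hA
  obtain ⟨u, v, hu0, hv0, hui, hvi, huv, hdu, hdv⟩ := exists_integral_factor h0 hKK
  set T : Finset (Env A) := u.support.image u.coeff ∪ v.support.image v.coeff
  set B := Algebra.adjoin A (T : Set (Env A)) with hB
  have hmemT : ∀ (w : (Env A)[X]), w.support.image w.coeff ⊆ T → ∀ i, w.coeff i ∈ B := fun w hw i => by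
    by_cases hi : i ∈ w.support
    · exact Algebra.subset_adjoin (hw (Finset.mem_image_of_mem _ hi))
    · rw [Polynomial.notMem_support_iff.1 hi]; exact zero_mem _
  have huB := hmemT u Finset.subset_union_left
  have hvB := hmemT v Finset.subset_union_right
  have hsurj : ∀ w : (Env A)[X], (∀ i, w.coeff i ∈ B) → ∃ w' : B[X], w'.map B.val.toRingHom = w := fun w hw => by
    refine ⟨∑ i ∈ Finset.range (w.natDegree + 1), C ⟨w.coeff i, hw i⟩ * X ^ i, ?_⟩
    conv_rhs => rw [w.as_sum_range_C_mul_X_pow]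
    simp [Polynomial.map_sum]
  obtain ⟨uB, huB'⟩ := hsurj u huB
  obtain ⟨vB, hvB'⟩ := hsurj v hvB
  have hvalinj : Function.Injective (Polynomial.map (R := B) B.val.toRingHom) :=
    Polynomial.map_injective _ Subtype.val_injective
  have hmapmap : ∀ a : A[X], (a.map (algebraMap A B)).map B.val.toRingHom = a.map (algebraMap A (Env A)) := fun a => by
    rw [Polynomial.map_map]; rfl
  have hle : ∀ (J : Ideal A[X]) (w : (Env A)[X]) (wB : B[X]), wB.map B.val.toRingHom = w → (∀ i, w.coeff i ∈ B) →
      w.coeff 0 = 1 → (∀ a ∈ J, w ∣ a.map (algebraMap A (Env A))) →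
      J.map (mapRingHom (algebraMap A B)) ≤ Ideal.span {wB} := by
    intro J w wB hw hwB hw0 hd
    refine Ideal.map_le_iff_le_comap.2 fun a ha => ?_
    obtain ⟨q, hq⟩ := hd a ha
    obtain ⟨qB, hqB⟩ := hsurj q (coeff_mem_of_mul B hwB (fun i => by rw [coeff_map]; exact B.algebraMap_mem _) hw0 hq)
    refine Ideal.mem_span_singleton'.2 ⟨qB, hvalinj ?_⟩
    rw [Polynomial.map_mul, hw, hqB, coe_mapRingHom, hmapmap, hq, mul_comm]
  have huvB : uB * vB = h.map (algebraMap A B) := hvalinj (by rw [Polynomial.map_mul, huB', hvB', hmapmap, huv])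
  have hreg : ∀ (w : B[X]), (w.map B.val.toRingHom).coeff 0 = 1 → ∀ a b, a * w = b * w → a = b :=
    fun w hw a b hab => hvalinj (eq_of_mul_eq_mul hw (by rw [← Polynomial.map_mul, hab, Polynomial.map_mul]))
  have hKu := hle K u uB huB' huB hu0 hdu
  have hKv := hle K' v vB hvB' hvB hv0 hdv
  have hprod : uB * vB ∈ K.map (mapRingHom (algebraMap A B)) * K'.map (mapRingHom (algebraMap A B)) := by
    rw [← Ideal.map_mul, hKK, huvB]
    exact Ideal.mem_map_of_mem _ (Ideal.mem_span_singleton_self h)
  have hKB : K.map (mapRingHom (algebraMap A B)) = Ideal.span {uB} := by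
    refine le_antisymm hKu ((Ideal.span_singleton_le_iff_mem _).2 ?_)
    obtain ⟨z, hz, hzv⟩ := Ideal.mem_mul_span_singleton.1 (Ideal.mul_mono le_rfl hKv hprod)
    rw [hreg vB (by rw [hvB', hv0]) uB z hzv.symm]
    exact hz
  have hKB' : K'.map (mapRingHom (algebraMap A B)) = Ideal.span {vB} := by
    refine le_antisymm hKv ((Ideal.span_singleton_le_iff_mem _).2 ?_)
    obtain ⟨z, hz, hzu⟩ := Ideal.mem_span_singleton_mul.1 (Ideal.mul_mono hKu le_rfl hprod)
    rw [hreg uB (by rw [huB', hu0]) vB z (by rw [mul_comm z, hzu, mul_comm])]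
    exact hz
  -- the coefficients are congruent to elements of the ring at every prime
  have happ : ∀ (p : Ideal A) [p.IsPrime], ∀ x : B, (x : Env A) ∈ T →
      ∃ s ∉ p, ∃ a : A, ∀ q : Ideal B, q.IsPrime → q.comap (algebraMap A B) = p →
        algebraMap A B s * x - algebraMap A B a ∈ q := by
    intro p _ x hx
    set F := FractionRing (A ⧸ p)
    obtain ⟨g, g', hg, hg', hKg, hKg', -⟩ := exists_monic_generator (F := F) (h := h.map (algebraMap A F))
      (K := K.map (mapRingHom (algebraMap A F))) (K' := K'.map (mapRingHom (algebraMap A F)))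
      (by rw [coeff_map, h0, map_one]) (by rw [← Ideal.map_mul, hKK, Ideal.map_span, Set.image_singleton]; rfl)
    have key : ∀ (J : Ideal A[X]) (gF : F[X]) (wB : B[X]) (i : ℕ), gF.coeff 0 = 1 → (wB.map B.val.toRingHom).coeff 0 = 1 →
        J.map (mapRingHom (algebraMap A F)) = Ideal.span {gF} → J.map (mapRingHom (algebraMap A B)) = Ideal.span {wB} →
        wB.coeff i = x → ∃ s ∉ p, ∃ a : A, ∀ q : Ideal B, q.IsPrime → q.comap (algebraMap A B) = p →
          algebraMap A B s * x - algebraMap A B a ∈ q := by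
      intro J gF wB i hgF hwB hJF hJB hxi
      rw [← hxi]
      exact exists_congr_of_generators p J gF wB hgF
        (Subtype.val_injective (by rw [coeff_map] at hwB; simpa using hwB)) hJF hJB i
    rcases Finset.mem_union.1 hx with hx | hx
    · obtain ⟨i, -, hi⟩ := Finset.mem_image.1 hx
      refine key K g uB i hg (by rw [huB', hu0]) hKg hKB (Subtype.val_injective ?_)
      rw [← hi, ← huB', coeff_map]; rfl
    · obtain ⟨i, -, hi⟩ := Finset.mem_image.1 hx
      refine key K' g' vB i hg' (by rw [hvB', hv0]) hKg' hKB' (Subtype.val_injective ?_)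
      rw [← hi, ← hvB', coeff_map]; rfl
  have hbot := eq_bot_of_seminormal hA (env_injective A) T (fun x hx => by
    rcases Finset.mem_union.1 hx with hx | hx <;> obtain ⟨i, -, rfl⟩ := Finset.mem_image.1 hx
    exacts [hui i, hvi i]) happ
  have hbij : Function.Bijective (algebraMap A B) := ⟨fun a b h => env_injective A (congrArg Subtype.val h), fun b => by
    obtain ⟨a, ha⟩ := Algebra.mem_bot.1 (hbot ▸ b.2 : (b : Env A) ∈ (⊥ : Subalgebra A (Env A)))
    exact ⟨a, Subtype.val_injective ha⟩⟩
  obtain ⟨g, hg⟩ := Polynomial.map_surjective (algebraMap A B) hbij.2 uB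
  have hbij' : Function.Bijective (mapRingHom (algebraMap A B)) :=
    ⟨Polynomial.map_injective _ hbij.1, Polynomial.map_surjective _ hbij.2⟩
  refine ⟨g, env_injective A ?_, ?_⟩
  · rw [map_one, ← hu0, ← huB', ← hg, hmapmap, coeff_map]
  · have h1 := congrArg (Ideal.comap (mapRingHom (algebraMap A B))) hKB
    rw [← hg, show Ideal.span {g.map (algebraMap A B)} = (Ideal.span {g}).map (mapRingHom (algebraMap A B)) by
      rw [Ideal.map_span, Set.image_singleton, coe_mapRingHom], Ideal.comap_map_of_bijective _ hbij',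
      Ideal.comap_map_of_bijective _ hbij'] at h1
    exact h1

end GrothLib.SwanPic1
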